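import Groth.Agent.BlowComp.Chart
import Groth.Agent.IdealSh.Extend
import Groth.Agent.IdealSh.FinType

/-!
# A finite type ideal on a blow-up is, up to exceptional twist, pulled back from the base
-/

set_option autoImplicit false
set_option maxHeartbeats 1600000
set_option backward.isDefEq.respectTransparency false
set_option backward.defeqAttrib.useBackward true

universe u

open CategoryTheory CategoryTheory.Limits AlgebraicGeometry TopologicalSpace
open Groth.Agent.IdealSh Groth.Agent.BlowUp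

namespace Groth.Agent.BlowComp.Main

variable {X X' : Scheme.{u}}

lemma isFiniteType_finset_sup {ι : Type*} (s : Finset ι) (F : ι → X.IdealSheafData)
    (h : ∀ i ∈ s, BlowUp.IsFiniteTypeIdeal (F i)) : BlowUp.IsFiniteTypeIdeal (s.sup F) := by
  refine Finset.sup_induction (fun U => ?_) (fun a ha b hb U => ?_) h
  · rw [Scheme.IdealSheafData.ideal_bot, Pi.bot_apply]
    exact Submodule.fg_bot
  · rw [Scheme.IdealSheafData.ideal_sup, Pi.sup_apply]
    exact Submodule.FG.sup (ha U) (hb U)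

lemma le_iff_forall_chart {κ : Type*} {𝓙 𝓚 : X.IdealSheafData} (C : κ → X.affineOpens)
    (hC : ∀ x, ∃ i, x ∈ (C i).1) (h : ∀ i, 𝓙.ideal (C i) ≤ 𝓚.ideal (C i)) : 𝓙 ≤ 𝓚 := by
  rw [← sup_eq_right]
  refine Scheme.IdealSheafData.ext_of_iSup_eq_top C (top_unique fun x _ => ?_) fun i => ?_
  · obtain ⟨i, hi⟩ := hC x
    exact Opens.mem_iSup.mpr ⟨i, hi⟩
  · rw [Scheme.IdealSheafData.ideal_sup, Pi.sup_apply, sup_eq_right.mpr (h i)]

theorem exists_ideal [CompactSpace X] [QuasiSeparatedSpace X] {b : X' ⟶ X}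
    {𝓘 : X.IdealSheafData} (hb : BlowUp.IsBlowUp b 𝓘) (h𝓘 : BlowUp.IsFiniteTypeIdeal 𝓘)
    (𝓙 : X'.IdealSheafData) (h𝓙 : BlowUp.IsFiniteTypeIdeal 𝓙) :
    ∃ (N : ℕ) (M : X.IdealSheafData), BlowUp.IsFiniteTypeIdeal M ∧
      M.comap b = (𝓘.comap b) ^ N * 𝓙 := by
  classical
  have : IsProper b := BlowUpProper.Basic.isProper hb h𝓘
  have : CompactSpace X' := QuasiCompact.compactSpace_of_compactSpace b
  -- charts
  have hU : ∀ x : X', ∃ U : X.affineOpens, b x ∈ U.1 := fun x => by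
    obtain ⟨U, hU, -⟩ := Comap.exists_affine_le (b x) ⊤ trivial
    exact ⟨U, hU⟩
  choose U hUx using hU
  choose C a hC hxC ha hnzd hspan hsurj hmax using fun x => Chart.exists_chart hb (U x) x (hUx x)
  let α : ∀ (x : X') (T : X'.affineOpens) (_ : T.1 ≤ b ⁻¹ᵁ (U x).1), Γ(X, (U x).1) →+* Γ(X', T.1) :=
    fun x T h => (b.appLE (U x).1 T.1 h).hom
  obtain ⟨s, hs⟩ := isCompact_univ.elim_finite_subcover (fun x : X' => ((C x).1 : Set X'))
    (fun x => (C x).1.2) (fun x _ => Set.mem_iUnion.mpr ⟨x, hxC x⟩)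
  have hcov : ∀ y : X', ∃ x : s, y ∈ (C x).1 := fun y => by
    obtain ⟨x, hx, hy⟩ := Set.mem_iUnion₂.mp (hs (Set.mem_univ y))
    exact ⟨⟨x, hx⟩, hy⟩
  -- generators of `𝓙` on charts as fractions
  have hgens := fun x : s => h𝓙 (C x)
  choose G hG using hgens
  let ι₀ : Type u := Σ x : s, G x
  choose n c hnc using fun t : ι₀ => hsurj t.1 (t.2 : Γ(X', (C t.1).1))
  -- boundedness of the poles on every affine piece
  let E := 𝓘.comap b
  have hE : ∀ x : X', (E ^ 1).ideal (C x) = Ideal.span {α x (C x) (hC x) (a x)} := fun x => by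
    rw [pow_one]; exact hspan x
  have hbound : ∀ t : ι₀, ∃ k : ℕ, ∀ (T : X'.affineOpens) (hT : T.1 ≤ b ⁻¹ᵁ (U t.1).1) (m : ℕ), k ≤ m →
      α t.1 T hT (a t.1 ^ m * c t) ∈ (E ^ (n t + m) * 𝓙).ideal T := by
    intro t
    set x : X' := (t.1 : X')
    have hloc : ∀ y : X', b y ∈ (U x).1 → ∃ (T : X'.affineOpens) (hT : T.1 ≤ b ⁻¹ᵁ (U x).1), y ∈ T.1 ∧
        ∃ k : ℕ, ∀ m, k ≤ m → α x T hT (a x ^ m * c t) ∈ (E ^ (n t + m) * 𝓙).ideal T := by
      intro y hy
      obtain ⟨T, hyT, hT, e, he, heT⟩ := EffCartier.exists_equation hb.1 y (b ⁻¹ᵁ (U x).1) hy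
      refine ⟨T, hT, hyT, ?_⟩
      have haT : α x T hT (a x) ∈ E.ideal T := by
        rw [Comap.ideal_comap 𝓘 b (U x) T hT]; exact Ideal.mem_map_of_mem _ (ha x)
      obtain ⟨v, hv⟩ := Ideal.mem_span_singleton'.mp (heT ▸ haT)
      let W : X'.affineOpens := X'.affineBasicOpen v
      have hWT : W.1 ≤ T.1 := X'.basicOpen_le v
      let r := (X'.presheaf.map (homOfLE hWT).op).hom
      have hrα : ∀ d, r (α x T hT d) = α x W (hWT.trans hT) d := fun d => by
        simp only [r, α]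
        erw [← ConcreteCategory.comp_apply, Scheme.Hom.appLE_map]
      have hrv : IsUnit (r v) := RingedSpace.isUnit_res_basicOpen _ _
      have hre : r e ∈ nonZeroDivisors Γ(X', W.1) := EffCartier.map_res_mem_nonZeroDivisors hWT he
      have hEW : E.ideal W = Ideal.span {r e} := EffCartier.restrict_eq hWT heT
      have haW : α x W (hWT.trans hT) (a x) = r v * r e := by rw [← hrα, ← hv, map_mul]
      have hWC : W.1 ≤ (C x).1 := hmax x W (hWT.trans hT)
        (by show α x W _ (a x) ∈ _; rw [haW]; exact mul_mem hrv.mem_nonZeroDivisors hre)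
        (by
          show E.ideal W ≤ Ideal.span {α x W _ (a x)}
          rw [haW, Ideal.span_singleton_mul_left_unit hrv, hEW])
      have hmem : r (α x T hT (c t)) ∈ ((E ^ n t * 𝓙).ideal T).map r := by
        rw [hrα, show ((E ^ n t * 𝓙).ideal T).map r = (E ^ n t * 𝓙).ideal W from
          Scheme.IdealSheafData.map_ideal _ hWT,
          ← (E ^ n t * 𝓙).map_ideal (U := W) (V := C x) hWC]
        have h1 : α x W (hWT.trans hT) (c t) =
            (X'.presheaf.map (homOfLE hWC).op).hom (α x (C x) (hC x) (c t)) := by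
          simp only [α]
          erw [← ConcreteCategory.comp_apply, Scheme.Hom.appLE_map]
        rw [h1]
        refine Ideal.mem_map_of_mem _ ?_
        rw [show α x (C x) (hC x) (c t) = _ from (hnc t).symm, Scheme.IdealSheafData.ideal_mul,
          Scheme.IdealSheafData.ideal_pow, Pi.mul_apply, Pi.pow_apply, hspan x]
        exact Ideal.mul_mem_mul (Ideal.pow_mem_pow (Ideal.mem_span_singleton_self _) _)
          ((hG t.1) ▸ Ideal.subset_span t.2.2)
      have hloc' := T.2.isLocalization_basicOpen v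
      have hr : r = algebraMap Γ(X', T.1) Γ(X', X'.basicOpen v) := by
        rw [RingHom.algebraMap_toAlgebra]
      rw [hr] at hmem
      obtain ⟨_, ⟨k, rfl⟩, hw⟩ :=
        (IsLocalization.algebraMap_mem_map_algebraMap_iff (R := Γ(X', T.1))
          (S := Γ(X', X'.basicOpen v)) (Submonoid.powers v) _ _).mp hmem
      refine ⟨k, fun m hm => ?_⟩
      have hk' : v ^ m * α x T hT (c t) ∈ (E ^ n t * 𝓙).ideal T := by
        rw [← Nat.sub_add_cancel hm, pow_add, mul_assoc]
        exact Ideal.mul_mem_left _ _ hw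
      rw [map_mul, map_pow, ← hv, mul_pow, mul_comm (v ^ m) (e ^ m), mul_assoc,
        show E ^ (n t + m) * 𝓙 = E ^ m * (E ^ n t * 𝓙) by rw [← mul_assoc, ← pow_add, add_comm],
        Scheme.IdealSheafData.ideal_mul, Pi.mul_apply]
      refine Ideal.mul_mem_mul ?_ hk'
      rw [Scheme.IdealSheafData.ideal_pow, Pi.pow_apply, show E.ideal T = _ from heT]
      exact Ideal.pow_mem_pow (Ideal.mem_span_singleton_self _) _
    choose T hT hyT k hk using fun y : (b ⁻¹ᵁ (U x).1 : X'.Opens) => hloc y.1 y.2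
    obtain ⟨s', hs'⟩ := (b.isCompact_preimage (U x).2.isCompact).elim_finite_subcover
      (fun y : (b ⁻¹ᵁ (U x).1 : X'.Opens) => ((T y).1 : Set X')) (fun y => (T y).1.2)
      (fun y hy => Set.mem_iUnion.mpr ⟨⟨y, hy⟩, hyT ⟨y, hy⟩⟩)
    refine ⟨s'.sup k, fun T₀ hT₀ m hm => ?_⟩
    have hpieces : ∀ y ∈ T₀.1, ∃ (f : Γ(X', T₀.1)), y ∈ X'.basicOpen f ∧
        ∃ z ∈ s', X'.basicOpen f ≤ (T z).1 := by
      intro y hy
      obtain ⟨z, hz, hyz⟩ := Set.mem_iUnion₂.mp (hs' (hT₀ hy))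
      obtain ⟨f, hf, hyf⟩ := T₀.2.exists_basicOpen_le ⟨y, hyz⟩ hy
      exact ⟨f, hyf, z, hz, hf⟩
    choose f hf z hz hfz using hpieces
    have hspanf : Ideal.span (Set.range fun y : T₀.1 => f y.1 y.2) = ⊤ := by
      rw [← T₀.2.self_le_iSup_basicOpen_iff]
      intro y hy
      rw [iSup_range', Opens.mem_iSup]
      exact ⟨⟨y, hy⟩, hf y hy⟩
    refine Submodule.mem_of_span_eq_top_of_smul_pow_mem _ _ hspanf _ fun ⟨_, ⟨y, hy⟩, rfl⟩ => ?_
    let W := X'.affineBasicOpen (f y hy)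
    have h1 : (X'.presheaf.map (homOfLE (X'.basicOpen_le (f y hy))).op).hom
        (α x T₀ hT₀ (a x ^ m * c t)) ∈ (E ^ (n t + m) * 𝓙).ideal W := by
      have h2 := hk (z y hy) m (le_trans (Finset.le_sup (hz y hy)) hm)
      have h3 := Ideal.mem_map_of_mem (X'.presheaf.map (homOfLE (hfz y hy)).op).hom h2
      erw [Scheme.IdealSheafData.map_ideal (E ^ (n t + m) * 𝓙) (U := W) (V := T (z y hy)) (hfz y hy)] at h3
      refine Eq.mp ?_ h3
      congr 1
      show (b.appLE _ _ _ ≫ X'.presheaf.map (homOfLE (hfz y hy)).op).hom (a x ^ m * c t) =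
        (b.appLE _ _ _ ≫ X'.presheaf.map (homOfLE (X'.basicOpen_le (f y hy))).op).hom (a x ^ m * c t)
      rw [Scheme.Hom.appLE_map, Scheme.Hom.appLE_map]
    have hloc' := T₀.2.isLocalization_basicOpen (f y hy)
    rw [← Scheme.IdealSheafData.map_ideal_basicOpen,
      show (X'.presheaf.map (homOfLE (X'.basicOpen_le (f y hy))).op).hom =
        algebraMap Γ(X', T₀.1) Γ(X', X'.basicOpen (f y hy)) by rw [RingHom.algebraMap_toAlgebra]] at h1
    obtain ⟨_, ⟨k', rfl⟩, hw⟩ :=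
      (IsLocalization.algebraMap_mem_map_algebraMap_iff (R := Γ(X', T₀.1))
        (S := Γ(X', X'.basicOpen (f y hy))) (Submonoid.powers (f y hy)) _ _).mp h1
    exact ⟨k', hw⟩
  choose k hk using hbound
  let N := Finset.univ.sup fun t : ι₀ => n t + k t
  have hN : ∀ t : ι₀, n t + k t ≤ N := fun t => Finset.le_sup (f := fun t : ι₀ => n t + k t) (Finset.mem_univ t)
  let 𝓣 := E ^ N * 𝓙
  have hle : ∀ (t : ι₀) (T : X'.affineOpens) (hT : T.1 ≤ b ⁻¹ᵁ (U t.1).1),
      α t.1 T hT (a t.1 ^ (N - n t) * c t) ∈ 𝓣.ideal T := fun t T hT => by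
    have := hk t T hT (N - n t) (by have := hN t; omega)
    rwa [show n t + (N - n t) = N by have := hN t; omega] at this
  -- the ideal downstairs
  have hM : ∀ t : ι₀, ∃ M : X.IdealSheafData, BlowUp.IsFiniteTypeIdeal M ∧ M ≤ 𝓣.map b ∧
      a t.1 ^ (N - n t) * c t ∈ M.ideal (U t.1) := by
    intro t
    set V : X.affineOpens := U t.1
    set y := a t.1 ^ (N - n t) * c t
    have : IsAffine V.1.toScheme := V.2
    have : QuasiCompact V.1.ι := Extend.quasiCompact_ι V.2.isCompact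
    let y' : Γ(V.1.toScheme, ⊤) := V.1.topIso.inv.hom y
    let K := Scheme.IdealSheafData.ofIdealTop (Ideal.span {y'})
    let J := 𝓣.map b ⊓ K.map V.1.ι
    have hyM : y ∈ (𝓣.map b).ideal V := (Extend.mem_map_iff b 𝓣 V y).mpr fun T e => hle t T e
    have hKy : ∀ (T : V.1.toScheme.affineOpens) (e : T.1 ≤ V.1.ι ⁻¹ᵁ V.1),
        (V.1.ι.appLE V.1 T.1 e).hom y =
          (V.1.toScheme.presheaf.map (homOfLE (le_top : T.1 ≤ ⊤)).op).hom y' := by
      intro T e
      have h1 : V.1.ι.appLE V.1 T.1 e = V.1.topIso.inv ≫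
          V.1.toScheme.presheaf.map (homOfLE (le_top : T.1 ≤ ⊤)).op := by
        simp [Scheme.Hom.appLE, Scheme.Opens.topIso_inv, ← Functor.map_comp]
        rfl
      exact congr($(h1).hom y)
    have hyK : y ∈ (K.map V.1.ι).ideal V := (Extend.mem_map_iff V.1.ι K V y).mpr fun T e => by
      rw [hKy T e, Scheme.IdealSheafData.ofIdealTop_ideal]
      exact Ideal.mem_map_of_mem _ (Ideal.mem_span_singleton_self y')
    have hfg : Extend.FGOn J V.1 := by
      refine Extend.fgOn_of_comap ?_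
      rw [Extend.comap_inf, Extend.comap_map]
      have hKle : K ≤ (𝓣.map b).comap V.1.ι := by
        refine Scheme.IdealSheafData.le_of_isAffine ?_
        rw [Scheme.IdealSheafData.ofIdealTop_ideal, Ideal.map_span, Set.image_singleton,
          Ideal.span_le, Set.singleton_subset_iff, SetLike.mem_coe,
          Comap.ideal_comap (𝓣.map b) V.1.ι V ⟨⊤, isAffineOpen_top _⟩ V.1.ι_preimage_self.ge,
          ← hKy ⟨⊤, isAffineOpen_top _⟩ V.1.ι_preimage_self.ge]
        exact Ideal.mem_map_of_mem _ hyM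
      rw [inf_eq_right.mpr hKle]
      intro T
      rw [Scheme.IdealSheafData.ofIdealTop_ideal]
      exact Ideal.FG.map (Submodule.fg_span_singleton y') _
    obtain ⟨M, hM1, hM2, hM3⟩ := Extend.exists_finiteType V.2.isCompact hfg
    refine ⟨M, hM1, hM2.trans inf_le_left, ?_⟩
    rw [hM3 V le_rfl, Scheme.IdealSheafData.ideal_inf, Pi.inf_apply]
    exact ⟨hyM, hyK⟩
  choose M hM1 hM2 hM3 using hM
  refine ⟨N, Finset.univ.sup M, isFiniteType_finset_sup _ _ fun t _ => hM1 t, le_antisymm ?_ ?_⟩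
  · exact ((Scheme.IdealSheafData.map_gc b).monotone_l (Finset.sup_le fun t _ => hM2 t)).trans
      ((Scheme.IdealSheafData.map_gc b).l_u_le _)
  · refine le_iff_forall_chart (fun x : s => C x) hcov fun x => ?_
    show 𝓣.ideal (C x) ≤ _
    rw [Scheme.IdealSheafData.ideal_mul, Scheme.IdealSheafData.ideal_pow, Pi.mul_apply, Pi.pow_apply,
      show E.ideal (C x) = _ from hspan x, ← hG x, Ideal.span_singleton_pow,
      Ideal.span_mul_span', Ideal.span_le]
    rintro _ ⟨w, hw, g, hg, rfl⟩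
    rw [Set.mem_singleton_iff] at hw
    subst hw
    let t : ι₀ := ⟨x, ⟨g, hg⟩⟩
    rw [SetLike.mem_coe, Comap.ideal_comap _ b (U x) (C x) (hC x)]
    have h1 : (Finset.univ.sup M).ideal (U x) ≥ (M t).ideal (U x) :=
      (Finset.le_sup (f := M) (Finset.mem_univ t) :) (U x)
    have h2 := Ideal.mem_map_of_mem (α x (C x) (hC x)) (h1 (hM3 t))
    refine Eq.mp ?_ h2
    congr 1
    show α x (C x) (hC x) (a x ^ (N - n t) * c t) = α x (C x) (hC x) (a x) ^ N * g
    rw [map_mul, map_pow]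
    show _ * α x (C x) (hC x) (c t) = _
    rw [show α x (C x) (hC x) (c t) = _ from (hnc t).symm, ← mul_assoc, ← pow_add,
      Nat.sub_add_cancel (le_trans (Nat.le_add_right _ _) (hN t))]

/-- A composition of two blow-ups in finite type ideals is a blow-up. -/
theorem exists_comp [CompactSpace X] [QuasiSeparatedSpace X] {X'' : Scheme.{u}} {b : X' ⟶ X}
    {b' : X'' ⟶ X'} {𝓘 : X.IdealSheafData} (hb : BlowUp.IsBlowUp b 𝓘)
    (h𝓘 : BlowUp.IsFiniteTypeIdeal 𝓘) {𝓙 : X'.IdealSheafData}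
    (h𝓙 : BlowUp.IsFiniteTypeIdeal 𝓙) (hb' : BlowUp.IsBlowUp b' 𝓙) :
    ∃ 𝓚 : X.IdealSheafData, BlowUp.IsFiniteTypeIdeal 𝓚 ∧
      (𝓚.support : Set X) = (𝓘.support : Set X) ∪ (fun x' => b x') '' (𝓙.support : Set X') ∧
      BlowUp.IsBlowUp (b' ≫ b) 𝓚 := by
  obtain ⟨N, M, hM, hMc⟩ := exists_ideal hb h𝓘 𝓙 h𝓙
  have hb'' : BlowUp.IsBlowUp b' (M.comap b) := by
    rw [hMc, mul_comm]
    exact Basic.mul_effCartier hb' (EffCartier.pow hb.1 N)
  refine ⟨𝓘 * M, FinType.mul h𝓘 hM, ?_, Basic.comp_mul hb hb''⟩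
  have hiff : ∀ x' : X', b x' ∉ 𝓘.support → (b x' ∈ M.support ↔ x' ∈ 𝓙.support) := by
    intro x' hx'
    have h1 : x' ∈ (M.comap b).support ↔ b x' ∈ M.support := by
      rw [Scheme.IdealSheafData.support_comap]; rfl
    rw [← h1, hMc, Scheme.IdealSheafData.support_mul]
    refine ⟨fun h => h.resolve_left fun hE => ?_, Or.inr⟩
    by_cases hN : N = 0
    · subst hN
      rw [pow_zero, Scheme.IdealSheafData.one_eq_top, Scheme.IdealSheafData.support_top] at hE
      exact hE.elim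
    · rw [Scheme.IdealSheafData.support_pow _ _ hN, Scheme.IdealSheafData.support_comap] at hE
      exact hx' hE
  rw [Scheme.IdealSheafData.support_mul, Closeds.coe_sup]
  refine Set.Subset.antisymm ?_ ?_
  · rintro x (hx | hx)
    · exact Or.inl hx
    by_cases hxI : x ∈ (𝓘.support : Set X)
    · exact Or.inl hxI
    have := Basic.isIso_restrict hb 𝓘.support.compl disjoint_compl_left
    obtain ⟨w, hw⟩ := (b ∣_ 𝓘.support.compl).homeomorph.surjective ⟨x, hxI⟩
    have hbw : b ((b ⁻¹ᵁ 𝓘.support.compl).ι w) = x := by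
      rw [← Scheme.Hom.comp_apply, ← morphismRestrict_ι, Scheme.Hom.comp_apply]
      exact congrArg Subtype.val hw
    refine Or.inr ⟨_, (hiff _ ?_).mp ?_, hbw⟩
    · rw [hbw]; exact hxI
    · rw [hbw]; exact hx
  · rintro x (hx | ⟨x', hx', rfl⟩)
    · exact Or.inl hx
    by_cases hxI : b x' ∈ (𝓘.support : Set X)
    · exact Or.inl hxI
    · exact Or.inr ((hiff x' hxI).mpr hx')

end Groth.Agent.BlowComp.Main
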