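import Groth.Agent.BlowUpProper.Basic

/-!
# Affine charts of a blow-up
-/

set_option autoImplicit false
set_option maxHeartbeats 1000000
set_option backward.isDefEq.respectTransparency false
set_option backward.defeqAttrib.useBackward true

universe u

open CategoryTheory CategoryTheory.Limits AlgebraicGeometry TopologicalSpace
open Groth.Agent.IdealSh Groth.Agent.BlowUp

namespace Groth.Agent.BlowComp.Chart

variable {X X' : Scheme.{u}}

/-- The restriction of a blow-up over an affine open is a blow-up of its spectrum. -/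
lemma isBlowUp_restrict_spec {b : X' ⟶ X} {𝓘 : X.IdealSheafData} (hb : BlowUp.IsBlowUp b 𝓘)
    (U : X.affineOpens) :
    BlowUp.IsBlowUp ((b ∣_ U.1) ≫ U.2.isoSpec.hom) (Existence.centre (𝓘.ideal U)) := by
  have h := Local.comp_iso U.2.isoSpec (𝓘 := (𝓘.comap U.1.ι).comap U.2.isoSpec.inv) (b := b ∣_ U.1)
    (by rw [← Scheme.IdealSheafData.comap_comp, Iso.hom_inv_id, Scheme.IdealSheafData.comap_id]
        exact Local.restrict hb U.1)
  have e : Existence.centre (𝓘.ideal U) = (𝓘.comap U.1.ι).comap U.2.isoSpec.inv := by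
    refine Scheme.IdealSheafData.ext_of_isAffine ?_
    rw [Existence.centre, Scheme.IdealSheafData.ofIdealTop_ideal,
      ← Scheme.IdealSheafData.comap_comp, U.2.isoSpec_inv_ι,
      Comap.ideal_comap _ U.2.fromSpec U ⟨⊤, isAffineOpen_top _⟩
        (by rw [U.2.fromSpec_preimage_self]), Ideal.map_map, ← CommRingCat.hom_comp]
    congr 2
    simp [Scheme.Hom.appLE, IsAffineOpen.fromSpec_app_self, ← Functor.map_comp]
    rfl
  rw [e]
  exact h

/-- Charts of a blow-up: every point has an affine neighbourhood whose functions are fractions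
with a power of a single element `a` of the ideal as denominator; the neighbourhood contains every
place where `a` generates the pulled back ideal. -/
theorem exists_chart {b : X' ⟶ X} {𝓘 : X.IdealSheafData} (hb : BlowUp.IsBlowUp b 𝓘)
    (U : X.affineOpens) (x : X') (hx : b x ∈ U.1) :
    ∃ (C : X'.affineOpens) (a : Γ(X, U.1)) (hC : C.1 ≤ b ⁻¹ᵁ U.1),
      x ∈ C.1 ∧ a ∈ 𝓘.ideal U ∧
      (b.appLE U.1 C.1 hC).hom a ∈ nonZeroDivisors Γ(X', C.1) ∧
      (𝓘.comap b).ideal C = Ideal.span {(b.appLE U.1 C.1 hC).hom a} ∧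
      (∀ z : Γ(X', C.1), ∃ (n : ℕ) (c : Γ(X, U.1)),
        (b.appLE U.1 C.1 hC).hom a ^ n * z = (b.appLE U.1 C.1 hC).hom c) ∧
      ∀ (W : X'.affineOpens) (hW : W.1 ≤ b ⁻¹ᵁ U.1),
        (b.appLE U.1 W.1 hW).hom a ∈ nonZeroDivisors Γ(X', W.1) →
        (𝓘.comap b).ideal W ≤ Ideal.span {(b.appLE U.1 W.1 hW).hom a} → W.1 ≤ C.1 := by
  let A := Γ(X, U.1)
  let I : Ideal A := 𝓘.ideal U
  obtain ⟨e, he⟩ := Basic.exists_iso (isBlowUp_restrict_spec hb U) (Existence.isBlowUp_proj (A := A) I)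
  let P := Proj (Rees.deg (reesAlgebra I))
  obtain ⟨y, hy⟩ : ∃ y : P, (e.hom ≫ (b ⁻¹ᵁ U.1).ι) y = x :=
    ⟨e.inv ⟨x, hx⟩, by rw [← Scheme.Hom.comp_apply, Iso.inv_hom_id_assoc]; rfl⟩
  obtain ⟨⟨a, ha⟩, hya⟩ := Opens.mem_iSup.mp
    ((ProjRees.iSup_opensRange_chart I).ge (trivial : y ∈ (⊤ : P.Opens)))
  let k : Spec (CommRingCat.of (AffineChart.Chart I a)) ⟶ X' :=
    ProjRees.chart I ha ≫ e.hom ≫ (b ⁻¹ᵁ U.1).ι
  have hk : k ≫ b = AffineChart.toBase I a ≫ U.2.fromSpec := by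
    rw [← ProjRees.chart_over I ha, ← he]
    simp only [k, Category.assoc, ← U.2.isoSpec_inv_ι, Iso.hom_inv_id_assoc, morphismRestrict_ι]
  have hopen : IsOpenImmersion k := inferInstance
  let C : X'.affineOpens := ⟨k.opensRange, isAffineOpen_opensRange k⟩
  have hC : C.1 ≤ b ⁻¹ᵁ U.1 := by
    rintro _ ⟨w, rfl⟩
    show b (k w) ∈ U.1
    rw [← Scheme.Hom.comp_apply, hk, Scheme.Hom.comp_apply]
    exact U.2.range_fromSpec.le ⟨_, rfl⟩
  set φ := (b.appLE U.1 C.1 hC).hom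
  have hpre : (⊤ : (Spec (CommRingCat.of (AffineChart.Chart I a))).Opens) ≤ k ⁻¹ᵁ C.1 :=
    fun w _ => ⟨w, rfl⟩
  let θ₀ := k.appLE C.1 ⊤ hpre ≫ (Scheme.ΓSpecIso (CommRingCat.of (AffineChart.Chart I a))).hom
  let θ : Γ(X', C.1) →+* AffineChart.Chart I a := θ₀.hom
  have hθb : Function.Bijective θ := by
    have : IsIso (k.appLE C.1 ⊤ hpre) := by
      rw [Scheme.Hom.appLE]
      have := k.isIso_app C.1 le_rfl
      have htop : k ⁻¹ᵁ C.1 = ⊤ := top_le_iff.mp hpre
      have : IsIso (homOfLE hpre) := ⟨eqToHom htop, Subsingleton.elim _ _, Subsingleton.elim _ _⟩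
      infer_instance
    exact ConcreteCategory.bijective_of_isIso (C := CommRingCat) θ₀
  have hθ : ∀ c : A, θ (φ c) = algebraMap A (AffineChart.Chart I a) c := by
    intro c
    have h1 : b.appLE U.1 C.1 hC ≫ θ₀ = CommRingCat.ofHom (algebraMap A (AffineChart.Chart I a)) := by
      simp only [θ₀, Scheme.Hom.appLE_comp_appLE_assoc, hk]
      rw [← Scheme.Hom.appLE_comp_appLE (AffineChart.toBase I a) U.2.fromSpec U.1 ⊤ ⊤
        (by rw [U.2.fromSpec_preimage_self]) le_top]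
      have hF : U.2.fromSpec.appLE U.1 ⊤ (by rw [U.2.fromSpec_preimage_self]) =
          (Scheme.ΓSpecIso Γ(X, U.1)).inv := by
        simp [Scheme.Hom.appLE, IsAffineOpen.fromSpec_app_self, ← Functor.map_comp]
      rw [hF, show (AffineChart.toBase I a).appLE ⊤ ⊤ le_top = (AffineChart.toBase I a).appTop by
        simp [Scheme.Hom.appLE, Scheme.Hom.appTop], AffineChart.toBase, Category.assoc]
      erw [Scheme.ΓSpecIso_naturality, Iso.inv_hom_id_assoc]
    exact congr($(h1).hom c)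
  have hφI : (𝓘.comap b).ideal C = I.map φ := Comap.ideal_comap 𝓘 b U C hC
  have hnzd : φ a ∈ nonZeroDivisors Γ(X', C.1) := by
    rw [mem_nonZeroDivisors_iff_left]
    intro z hz
    apply hθb.1
    rw [map_zero]
    refine mem_nonZeroDivisors_iff_left.mp (AffineChart.algebraMap_mem_nonZeroDivisors I a) _ ?_
    rw [← hθ, ← map_mul, hz, map_zero]
  have hspan : (𝓘.comap b).ideal C = Ideal.span {φ a} := by
    rw [hφI]
    refine le_antisymm (Ideal.map_le_iff_le_comap.mpr fun i hi => ?_) (by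
      rw [Ideal.span_le, Set.singleton_subset_iff]; exact Ideal.mem_map_of_mem φ ha)
    rw [Ideal.mem_comap, Ideal.mem_span_singleton]
    obtain ⟨z, hz⟩ := hθb.2 (AffineChart.div I a hi)
    exact ⟨z, hθb.1 (by rw [map_mul, hθ, hθ, hz, AffineChart.algebraMap_mul_div])⟩
  refine ⟨C, a, hC, ?_, ha, hnzd, hspan, fun z => ?_, fun W hW hWn hWs => ?_⟩
  · obtain ⟨w, hw⟩ := hya
    refine ⟨w, ?_⟩
    exact (congrArg (fun t => (e.hom ≫ (b ⁻¹ᵁ U.1).ι) t) hw).trans hy
  · obtain ⟨n, c, hc⟩ := AffineChart.exists_pow_mul_eq I a (θ z)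
    exact ⟨n, c, hθb.1 (by rw [map_mul, map_pow, hθ, hθ, hc])⟩
  · let φW : A →+* Γ(X', W.1) := (b.appLE U.1 W.1 hW).hom
    obtain ⟨ψ, hψ⟩ := AffineChart.exists_lift I a φW hWn (by
      rw [← Comap.ideal_comap 𝓘 b U W hW]; exact hWs)
    let m : W.1.toScheme ⟶ Spec (CommRingCat.of (AffineChart.Chart I a)) :=
      W.1.toSpecΓ ≫ Spec.map (CommRingCat.ofHom ψ)
    have hm : (m ≫ k) ≫ b = W.1.ι ≫ b := by
      rw [Category.assoc, hk]
      simp only [m, Category.assoc, AffineChart.toBase, ← Spec.map_comp_assoc, ← CommRingCat.ofHom_comp, hψ]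
      rw [show CommRingCat.ofHom φW = b.appLE U.1 W.1 hW from rfl,
        IsAffineOpen.SpecMap_appLE_fromSpec b U.2 W.2 hW, IsAffineOpen.toSpecΓ_fromSpec_assoc]
    have hmk : m ≫ k = W.1.ι := Basic.hom_ext hb (by
      rw [hm, Scheme.IdealSheafData.comap_comp]
      exact EffCartier.comap_of_flat W.1.ι hb.1) hm
    intro w hw
    exact ⟨m ⟨w, hw⟩, congr(($hmk) (⟨w, hw⟩ : W.1.toScheme))⟩

end Groth.Agent.BlowComp.Chart
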